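import Cfsg.Agent.S0860
import Mathlib.GroupTheory.GroupAction.Quotient

/-!
# Numbers of orbits on characters and classes (helper887, for S4761)

* `orb A T` : the number of `A`-orbits meeting `T`;
* `irrAct φ`, `clsAct φ` : the actions of `A` on the irreducible characters and the classes of `W`, `φ : A →* Aut W`;
* **`orb_irr_eq`** : the numbers of orbits are equal.
-/

set_option autoImplicit false

open Cfsg

namespace Cfsg.Agent.H887.Glaub

open Cfsg.Agent.Characters.Core MulAction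

section orb

variable {A X : Type*} [Group A] [MulAction A X]

/-- the number of orbits meeting `T` -/
noncomputable def orb (A : Type*) {X : Type*} [Group A] [MulAction A X] (T : Set X) : ℕ :=
  ((fun x => (Quotient.mk (orbitRel A X) x)) '' T).ncard

theorem mk_eq_iff {x y : X} :
    (Quotient.mk (orbitRel A X) x) = Quotient.mk (orbitRel A X) y ↔ ∃ a : A, a • y = x := Quotient.eq

theorem orb_add [Finite X] {T : Set X} (hT : ∀ a : A, ∀ x ∈ T, a • x ∈ T) :
    orb A T + orb A Tᶜ = orb A (Set.univ : Set X) := by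
  unfold orb
  rw [← Set.union_compl_self T, Set.image_union, Set.ncard_union_eq _ (Set.toFinite _) (Set.toFinite _)]
  rw [Set.disjoint_left]
  rintro _ ⟨x, hx, rfl⟩ ⟨y, hy, e⟩
  obtain ⟨a, ha⟩ := mk_eq_iff.1 e
  exact hy (ha ▸ hT a x hx)

theorem orb_le {B Z : Type*} [Group B] [MulAction B Z] [Finite Z] {T : Set X} {S : Set Z}
    (hT : ∀ a : A, ∀ x ∈ T, a • x ∈ T) (f : X → Z) (hf : ∀ x ∈ T, f x ∈ S)
    (h : ∀ x ∈ T, ∀ y ∈ T, (∃ b : B, b • f x = f y) → ∃ a : A, a • x = y) : orb A T ≤ orb B S := by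
  unfold orb
  have hout : ∀ q : Quotient (orbitRel A X), q ∈ (fun x => (Quotient.mk (orbitRel A X) x)) '' T → q.out ∈ T := by
    rintro q ⟨x, hx, rfl⟩
    have h1 : Quotient.mk (orbitRel A X) (Quotient.mk (orbitRel A X) x).out = Quotient.mk (orbitRel A X) x :=
      Quotient.out_eq _
    obtain ⟨a, ha⟩ := mk_eq_iff.1 h1
    rw [← ha]
    exact hT a x hx
  refine Set.ncard_le_ncard_of_injOn (fun q => Quotient.mk (orbitRel B Z) (f q.out)) ?_ ?_ (Set.toFinite _)
  · intro q hq
    exact ⟨f q.out, hf _ (hout q hq), rfl⟩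
  · intro q hq q' hq' e
    obtain ⟨b, hb⟩ := mk_eq_iff.1 e
    obtain ⟨a, ha⟩ := h _ (hout q' hq') _ (hout q hq) ⟨b, hb⟩
    have h1 : Quotient.mk (orbitRel A X) q.out = Quotient.mk (orbitRel A X) q'.out := mk_eq_iff.2 ⟨a, ha⟩
    rwa [Quotient.out_eq, Quotient.out_eq] at h1

theorem orb_univ : orb A (Set.univ : Set X) = Nat.card (Quotient (orbitRel A X)) := by
  unfold orb
  rw [Set.image_univ, Set.range_eq_univ.2 Quotient.mk_surjective, Set.ncard_univ]

/-- Burnside's lemma -/
theorem orb_eq {Y : Type*} [MulAction A Y] [Finite A] [Finite X] [Finite Y]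
    (h : ∀ a : A, Nat.card {x : X // a • x = x} = Nat.card {y : Y // a • y = y}) :
    orb A (Set.univ : Set X) = orb A (Set.univ : Set Y) := by
  classical
  have := Fintype.ofFinite A
  have := Fintype.ofFinite X
  have := Fintype.ofFinite Y
  have : Fintype (Quotient (orbitRel A X)) := Fintype.ofFinite _
  have : Fintype (Quotient (orbitRel A Y)) := Fintype.ofFinite _
  rw [orb_univ, orb_univ, Nat.card_eq_fintype_card, Nat.card_eq_fintype_card]
  have h1 := sum_card_fixedBy_eq_card_orbits_mul_card_group A X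
  have h2 := sum_card_fixedBy_eq_card_orbits_mul_card_group A Y
  have h3 : ∑ a : A, Fintype.card (fixedBy X a) = ∑ a : A, Fintype.card (fixedBy Y a) := by
    refine Finset.sum_congr rfl fun a _ => ?_
    rw [← Nat.card_eq_fintype_card, ← Nat.card_eq_fintype_card]
    exact h a
  rw [h1, h2] at h3
  exact Nat.eq_of_mul_eq_mul_right Fintype.card_pos h3

/-- if at most one orbit meets `T` -/
theorem exists_smul_of_orb_le_one [Finite X] {T : Set X} (h : orb A T ≤ 1) {x y : X} (hx : x ∈ T) (hy : y ∈ T) :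
    ∃ a : A, a • x = y := by
  have h1 := (Set.ncard_le_one (Set.toFinite _)).1 h _ ⟨y, hy, rfl⟩ _ ⟨x, hx, rfl⟩
  exact mk_eq_iff.1 h1

theorem orb_le_one [Finite X] {T : Set X} (h : ∀ x ∈ T, ∀ y ∈ T, ∃ a : A, a • x = y) : orb A T ≤ 1 := by
  refine (Set.ncard_le_one (Set.toFinite _)).2 ?_
  rintro _ ⟨x, hx, rfl⟩ _ ⟨y, hy, rfl⟩
  exact mk_eq_iff.2 (h y hy x hx)

end orb

section act

variable {A W : Type*} [Group A] [Group W] (φ : A →* MulAut W)

/-- the action on the irreducible characters -/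
@[reducible] def irrAct : MulAction A (IrrCharacter W) where
  smul a χ := ⟨(χ : W → ℂ) ∘ ((φ a)⁻¹ : MulAut W).toMonoidHom,
    isIrr_comp ((φ a)⁻¹ : MulAut W).toMonoidHom ((φ a)⁻¹ : MulAut W).surjective χ.2⟩
  one_smul χ := Subtype.ext (by
    funext w
    show (χ : W → ℂ) ((φ 1)⁻¹ w) = χ.1 w
    rw [map_one, inv_one]
    rfl)
  mul_smul a b χ := Subtype.ext (by
    funext w
    show (χ : W → ℂ) ((φ (a * b))⁻¹ w) = χ.1 ((φ b)⁻¹ ((φ a)⁻¹ w))
    rw [map_mul, mul_inv_rev]
    rfl)

theorem irrAct_apply (a : A) (χ : IrrCharacter W) (w : W) :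
    ((irrAct φ).smul a χ : W → ℂ) w = (χ : W → ℂ) ((φ a)⁻¹ w) := rfl

/-- the action on the conjugacy classes -/
@[reducible] def clsAct : MulAction A (ConjClasses W) where
  smul a c := c.map (φ a).toMonoidHom
  one_smul c := by
    obtain ⟨w, rfl⟩ := ConjClasses.mk_surjective c
    show ConjClasses.mk ((φ 1) w) = ConjClasses.mk w
    rw [map_one]
    rfl
  mul_smul a b c := by
    obtain ⟨w, rfl⟩ := ConjClasses.mk_surjective c
    show ConjClasses.mk ((φ (a * b)) w) = ConjClasses.mk (φ a (φ b w))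
    rw [map_mul]
    rfl

theorem clsAct_mk (a : A) (w : W) : (clsAct φ).smul a (ConjClasses.mk w) = ConjClasses.mk (φ a w) := rfl

/-- **The numbers of orbits are equal.** -/
theorem orb_irr_eq [Finite A] [Finite W] :
    @orb A (IrrCharacter W) _ (irrAct φ) Set.univ = @orb A (ConjClasses W) _ (clsAct φ) Set.univ := by
  letI := irrAct φ
  letI := clsAct φ
  have : Finite (IrrCharacter W) := finite_irr
  refine orb_eq (A := A) fun a => ?_
  refine S0860.result (A := A) (fun a χ g g' h => ?_) a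
  change ConjClasses.mk g' = ConjClasses.mk (φ a g) at h
  change (χ : W → ℂ) ((φ a)⁻¹ g') = (χ : W → ℂ) g
  rw [ConjClasses.mk_eq_mk_iff_isConj] at h
  obtain ⟨c, hc⟩ := isConj_iff.1 h.symm
  have h1 : (φ a)⁻¹ g' = (φ a)⁻¹ c * g * ((φ a)⁻¹ c)⁻¹ := by
    rw [← hc, map_mul, map_mul, map_inv]
    congr 2
    exact (φ a).symm_apply_apply g
  rw [h1]
  exact isIrr_isClassFunction χ.2 _ _

end act

end Cfsg.Agent.H887.Glaub
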