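import Cfsg.Agent.H596.OneNonab
import Cfsg.Agent.S4444
import Cfsg.Agent.H887.Glaub.Orb

/-!
# The moved classes of a normal `p'`-subgroup (helper887, for S4761)

* `dvd_of_moved` : a character over a moved character of `W` has degree divisible by `p`;
* **`conj_of_moved`** : if at most one irreducible character of `G` has degree divisible by `p` then the elements of
  `W` moved by `P` are conjugate in `G`.
-/

set_option autoImplicit false
set_option linter.style.haveILetI false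

open Cfsg

namespace Cfsg.Agent.H887.Glaub

open Cfsg.Agent.Characters.Core Cfsg.Agent.OddOrderCharacters.IndRes Cfsg.Agent.Blocks.Knorr
open Cfsg.Agent.OddOrderCharacters.NormalInduced Cfsg.Agent.OddOrderCharacters.PF9.CliffGen
open Cfsg.Agent.H596.OneSing Cfsg.Agent.H670.PSing Cfsg.Agent.H596.OneNonab MulAction
open scoped Pointwise

universe u

variable {G : Type u} [Group G]

/-- the fixed points of `P` form a stable set if `P W` is normal and `W` acts trivially -/
theorem fixed_stable {X : Type*} [MulAction G X] {W P : Subgroup G} (hPW : (P ⊔ W).Normal)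
    (htriv : ∀ w ∈ W, ∀ z : X, w • z = z) {z : X} (hz : ∀ s ∈ P, s • z = z) (g : G) :
    ∀ s ∈ P, s • g • z = g • z := by
  intro s hs
  have h1 : P ⊔ W ≤ stabilizer G z := sup_le (fun s hs => hz s hs) (fun w hw => htriv w hw z)
  have h2 : g⁻¹ * s * g⁻¹⁻¹ ∈ P ⊔ W := hPW.conj_mem s (Subgroup.mem_sup_left hs) g⁻¹
  have h3 : (g⁻¹ * s * g⁻¹⁻¹) • z = z := h1 h2
  rw [inv_inv, mul_smul, mul_smul, inv_smul_eq_iff] at h3
  exact h3

/-- a subgroup of index prime to `p` over `W` contains `P` -/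
theorem le_of_not_dvd [Finite G] {p : ℕ} [hp : Fact p.Prime] {W T : Subgroup G} [hW : W.Normal] (P : Sylow p G)
    (hPW : ((P : Subgroup G) ⊔ W).Normal) (hWT : W ≤ T) (h : ¬ p ∣ T.index) : (P : Subgroup G) ≤ T := by
  have h1 : ¬ p ∣ Nat.card (G ⧸ T) := h
  obtain ⟨x, hx⟩ := P.2.nonempty_fixed_point_of_prime_not_dvd_card (G ⧸ T) h1
  obtain ⟨g, rfl⟩ := QuotientGroup.mk_surjective x
  have h2 : ∀ s ∈ (P : Subgroup G), g⁻¹ * s * g ∈ T := by
    intro s hs
    have h3 : (s * g : G ⧸ T) = (g : G ⧸ T) := hx ⟨s, hs⟩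
    have h3' : ((s * g : G) : G ⧸ T) = ((g : G) : G ⧸ T) := h3
    have h4 := QuotientGroup.eq.1 h3'.symm
    rwa [← mul_assoc] at h4
  have h5 : (P : Subgroup G) ⊔ W ≤ T.comap (MulAut.conj g⁻¹).toMonoidHom := by
    refine sup_le (fun s hs => ?_) (fun w hw => ?_)
    · have := h2 s hs
      simpa using this
    · have h6 := hWT (hW.conj_mem w hw g⁻¹)
      simpa using h6
  intro s hs
  have h6 : g * s * g⁻¹ ∈ (P : Subgroup G) ⊔ W := hPW.conj_mem s (Subgroup.mem_sup_left hs) g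
  have h7 : g⁻¹ * (g * s * g⁻¹) * g⁻¹⁻¹ ∈ T := h5 h6
  have h8 : g⁻¹ * (g * s * g⁻¹) * g⁻¹⁻¹ = s := by group
  rwa [h8] at h7

/-- a character over a moved character has degree divisible by `p` -/
theorem dvd_of_moved [Finite G] [Fintype G] {p : ℕ} [hp : Fact p.Prime] {W : Subgroup G} [hW : W.Normal] [Fintype W]
    (P : Sylow p G) (hPW : ((P : Subgroup G) ⊔ W).Normal) {θ : W → ℂ} (hθ : IsIrrCharacter W θ)
    (hm : ∃ s ∈ (P : Subgroup G), conjFn W θ s ≠ θ) {χ : G → ℂ} (hχ : IsIrrCharacter G χ)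
    (hov : classInner (res W χ) θ ≠ 0) : p ∣ charDegree χ := by
  classical
  have : Fintype (inertia W θ) := Fintype.ofFinite _
  obtain ⟨ψ, hψ, hψθ, hψχ⟩ := exists_ind hθ (fun g => Iff.rfl) (le_inertia (isIrr_isClassFunction hθ)) hχ hov
  have h1 : charDegree χ = (inertia W θ).index * charDegree ψ := by
    apply charDegree_eq_of
    rw [hψχ, indFun_apply_one, charDegree_eq hψ, Nat.cast_mul]
  have h2 : p ∣ (inertia W θ).index := by
    by_contra h
    obtain ⟨s, hs, hne⟩ := hm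
    exact hne (le_of_not_dvd P hPW (le_inertia (isIrr_isClassFunction hθ)) h hs)
  rw [h1]
  exact Dvd.dvd.mul_right h2 _

/-- conjugation on a normalised subgroup -/
def conjHom (N C : Subgroup G) (h : ∀ n ∈ N, ∀ c ∈ C, n * c * n⁻¹ ∈ C) : N →* MulAut C where
  toFun n :=
    { toFun := fun c => ⟨n * c * (n : G)⁻¹, h n n.2 c c.2⟩
      invFun := fun c => ⟨(n : G)⁻¹ * c * n, by
        have := h _ (inv_mem n.2) c c.2
        rwa [inv_inv] at this⟩
      left_inv := fun c => Subtype.ext (by show (n : G)⁻¹ * (n * c * (n : G)⁻¹) * n = c; group)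
      right_inv := fun c => Subtype.ext (by show (n : G) * ((n : G)⁻¹ * c * n) * (n : G)⁻¹ = c; group)
      map_mul' := fun c c' => Subtype.ext (by
        show (n : G) * (c * c') * (n : G)⁻¹ = n * c * (n : G)⁻¹ * (n * c' * (n : G)⁻¹)
        group) }
  map_one' := by
    ext c
    show (1 : G) * c * (1 : G)⁻¹ = c
    group
  map_mul' n n' := by
    ext c
    show (n * n' : G) * c * (n * n' : G)⁻¹ = n * (n' * c * (n' : G)⁻¹) * (n : G)⁻¹
    group

theorem conjHom_apply {N C : Subgroup G} (h : ∀ n ∈ N, ∀ c ∈ C, n * c * n⁻¹ ∈ C) (n : N) (c : C) :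
    ((conjHom N C h n c : C) : G) = n * c * (n : G)⁻¹ := rfl

theorem conjHom_inv_apply {N C : Subgroup G} (h : ∀ n ∈ N, ∀ c ∈ C, n * c * n⁻¹ ∈ C) (n : N) (c : C) :
    (((conjHom N C h n)⁻¹ c : C) : G) = (n : G)⁻¹ * c * n := rfl

/-- **Glauberman counting.** -/
theorem conj_of_moved [Finite G] {p : ℕ} [hp : Fact p.Prime] (W : Subgroup G) [hWn : W.Normal]
    (hW : ¬ p ∣ Nat.card W) (P : Sylow p G) (hPW : ((P : Subgroup G) ⊔ W).Normal) (hn : nSing p G ≤ 1) {x y : W}
    (hx : ∃ s ∈ (P : Subgroup G), ¬ IsConj (MulAut.conjNormal s x) x)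
    (hy : ∃ s ∈ (P : Subgroup G), ¬ IsConj (MulAut.conjNormal s y) y) : ∃ g : G, g * (x : G) * g⁻¹ = y := by
  classical
  have : Fintype G := Fintype.ofFinite G
  -- the subgroups
  set N : Subgroup G := Subgroup.normalizer ((P : Subgroup G) : Set G) with hN
  set C : Subgroup G := W ⊓ Subgroup.centralizer ((P : Subgroup G) : Set G) with hC
  have hCW : C ≤ W := inf_le_left
  have : Fintype W := Fintype.ofFinite W
  have : Fintype C := Fintype.ofFinite C
  have hNP : ∀ n ∈ N, ∀ s ∈ (P : Subgroup G), n * s * n⁻¹ ∈ (P : Subgroup G) := fun n hn s hs =>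
    (Subgroup.mem_normalizer_iff.1 hn s).1 hs
  have hNC : ∀ n ∈ N, ∀ c ∈ C, n * c * n⁻¹ ∈ C := by
    intro n hn c hc
    obtain ⟨hcW, hcP⟩ := Subgroup.mem_inf.1 hc
    refine Subgroup.mem_inf.2 ⟨hWn.conj_mem c hcW n, ?_⟩
    rw [Subgroup.mem_centralizer_iff] at hcP ⊢
    intro s hs
    have h1 := hcP _ (hNP n⁻¹ (inv_mem hn) s hs)
    rw [inv_inv] at h1
    calc s * (n * c * n⁻¹) = n * ((n⁻¹ * s * n) * c) * n⁻¹ := by group
      _ = n * (c * (n⁻¹ * s * n)) * n⁻¹ := by rw [h1]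
      _ = n * c * n⁻¹ * s := by group
  -- the actions
  letI a1 : MulAction G (IrrCharacter W) := irrAct MulAut.conjNormal
  letI a2 : MulAction G (ConjClasses W) := clsAct MulAut.conjNormal
  letI a3 : MulAction N (IrrCharacter C) := irrAct (conjHom N C hNC)
  letI a4 : MulAction N (ConjClasses C) := clsAct (conjHom N C hNC)
  have f1 : Finite (IrrCharacter W) := finite_irr
  have f2 : Finite (IrrCharacter C) := finite_irr
  have f3 : Finite (ConjClasses W) := inferInstance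
  have f4 : Finite (ConjClasses C) := inferInstance
  have e1 : ∀ (g : G) (χ : IrrCharacter W) (w : W),
      ((g • χ : IrrCharacter W) : W → ℂ) w = (χ : W → ℂ) ((MulAut.conjNormal g)⁻¹ w) := fun _ _ _ => rfl
  have e1' : ∀ (g : G) (χ : IrrCharacter W), ((g • χ : IrrCharacter W) : W → ℂ) = conjFn W (χ : W → ℂ) g⁻¹ := by
    intro g χ
    funext w
    rw [e1, conjFn_apply', map_inv]
  have e2 : ∀ (g : G) (w : W), g • (ConjClasses.mk w) = ConjClasses.mk (MulAut.conjNormal g w) := fun _ _ => rfl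
  -- `W` acts trivially
  have t1 : ∀ w ∈ W, ∀ χ : IrrCharacter W, w • χ = χ := by
    intro w hw χ
    refine Subtype.ext ?_
    rw [e1']
    exact conjFn_of_mem W (isIrr_isClassFunction χ.2) (inv_mem hw)
  have t2 : ∀ w ∈ W, ∀ c : ConjClasses W, w • c = c := by
    intro w hw c
    obtain ⟨v, rfl⟩ := ConjClasses.mk_surjective c
    rw [e2, ConjClasses.mk_eq_mk_iff_isConj]
    refine (isConj_iff.2 ⟨⟨w, hw⟩, ?_⟩ : IsConj v _).symm
    exact Subtype.ext rfl
  -- the fixed points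
  set Xf : Set (IrrCharacter W) := {χ | ∀ s ∈ (P : Subgroup G), s • χ = χ} with hXf
  set Yf : Set (ConjClasses W) := {c | ∀ s ∈ (P : Subgroup G), s • c = c} with hYf
  have s1 : ∀ g : G, ∀ χ ∈ Xf, g • χ ∈ Xf := fun g χ hχ => fixed_stable hPW t1 hχ g
  have s2 : ∀ g : G, ∀ c ∈ Yf, g • c ∈ Yf := fun g c hc => fixed_stable hPW t2 hc g
  -- (1) the moved characters
  have h1 : orb G Xfᶜ ≤ 1 := by
    refine orb_le_one ?_
    intro θ hθ φ hφ
    by_contra hcon
    push Not at hcon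
    have key : ∀ θ : IrrCharacter W, θ ∈ Xfᶜ → ∃ s ∈ (P : Subgroup G), conjFn W (θ : W → ℂ) s ≠ θ := by
      intro θ hθ
      have hθ1 : ¬ ∀ s ∈ (P : Subgroup G), s • θ = θ := hθ
      push Not at hθ1
      obtain ⟨s, hs, hne⟩ := hθ1
      refine ⟨s⁻¹, inv_mem hs, fun h => hne (Subtype.ext ?_)⟩
      rw [e1']
      exact h
    obtain ⟨χ, hχ⟩ := Blocks.Over.exists_over W θ
    obtain ⟨ψ, hψ⟩ := Blocks.Over.exists_over W φ
    have h2 := two_le_nSing (p := p) χ.2 ψ.2 (dvd_of_moved P hPW θ.2 (key θ hθ) χ.2 hχ)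
      (dvd_of_moved P hPW φ.2 (key φ hφ) ψ.2 hψ) (by
        intro h
        have hχ' : classInner (res W (ψ : G → ℂ)) (θ : W → ℂ) ≠ 0 := by rw [← h]; exact hχ
        obtain ⟨g, hg⟩ := conj_of_over W φ.2 θ.2 ψ.2 hψ hχ'
        apply hcon g⁻¹
        refine Subtype.ext ?_
        rw [e1', inv_inv]
        exact hg)
    omega
  -- the Glauberman correspondence
  have hcop : (Nat.card W).Coprime (Nat.card (P : Subgroup G)) := by
    obtain ⟨k, hk⟩ := IsPGroup.iff_card.1 P.2
    have hk' : Nat.card (P : Subgroup G) = p ^ k := hk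
    rw [hk']
    exact (Nat.Coprime.pow_right k ((Nat.Prime.coprime_iff_not_dvd hp.out).2 hW).symm)
  obtain ⟨g1, -, g3, -⟩ := S4444.result W (P : Subgroup G) (fun s _ w hw => hWn.conj_mem w hw s) hcop p hp.out P.2 C
    hC hCW
  have hinv : ∀ χ ∈ Xf, ∀ s ∈ (P : Subgroup G), ∀ g g' : W, (g' : G) = s * g * s⁻¹ →
      (χ : W → ℂ) g' = (χ : W → ℂ) g := by
    intro χ hχ s hs g g' hgg
    have h2 := congrFun (congrArg Subtype.val (hχ s hs)) g'
    have h3 : (χ : W → ℂ) ((MulAut.conjNormal s)⁻¹ g') = (χ : W → ℂ) g' := h2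
    rw [← h3, ← map_inv]
    refine congrArg (χ : W → ℂ) (Subtype.ext ?_)
    rw [MulAut.conjNormal_apply, hgg]
    group
  have hne : Nonempty (IrrCharacter C) := ⟨⟨1, isIrr_one⟩⟩
  have hβ : ∀ χ : IrrCharacter W, χ ∈ Xf → ∃ β : IrrCharacter C, ∃ m : ℕ,
      classInner (fun c : C => (χ : W → ℂ) ⟨c, hCW c.2⟩) (β : C → ℂ) = (m : ℂ) ∧ ¬ p ∣ m :=
    fun χ hχ => (g1 χ (hinv χ hχ)).exists
  choose! f hf using hβ
  -- (2) A
  have hA : orb G Xf ≤ orb N (Set.univ : Set (IrrCharacter C)) := by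
    refine orb_le s1 f (fun _ _ => Set.mem_univ _) ?_
    rintro θ hθ θ' hθ' ⟨n, hn'⟩
    refine ⟨(n : G), ?_⟩
    obtain ⟨m, hm, hmp⟩ := hf θ hθ
    obtain ⟨m', hm', hmp'⟩ := hf θ' hθ'
    refine g3 _ θ' (hinv _ (s1 n θ hθ)) (hinv _ hθ') (f θ') m m' ?_ hmp hm' hmp'
    rw [← hn', ← hm]
    have h2 : (fun c : C => (((n : G) • θ : IrrCharacter W) : W → ℂ) ⟨c, hCW c.2⟩) =
        (fun c : C => (θ : W → ℂ) ⟨c, hCW c.2⟩) ∘ ((conjHom N C hNC n)⁻¹ : MulAut C) := by
      funext c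
      rw [e1, ← map_inv]
      refine congrArg (θ : W → ℂ) (Subtype.ext ?_)
      rw [MulAut.conjNormal_apply]
      show (n : G)⁻¹ * c * (n : G)⁻¹⁻¹ = (((conjHom N C hNC n)⁻¹ c : C) : G)
      rw [conjHom_inv_apply, inv_inv]
    rw [h2]
    exact Characters.Clifford.classInner_comp_mulEquiv ((conjHom N C hNC n)⁻¹ : MulAut C) _ _
  -- (2) B
  have hB : orb N (Set.univ : Set (IrrCharacter C)) = orb N (Set.univ : Set (ConjClasses C)) :=
    orb_irr_eq (conjHom N C hNC)
  -- (2) C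
  have hD : orb N (Set.univ : Set (ConjClasses C)) ≤ orb G Yf := by
    refine orb_le (fun _ _ _ => Set.mem_univ _) (fun c => c.map (Subgroup.inclusion hCW)) ?_ ?_
    · intro c _ s hs
      obtain ⟨v, rfl⟩ := ConjClasses.mk_surjective c
      show s • ConjClasses.mk (Subgroup.inclusion hCW v) = ConjClasses.mk (Subgroup.inclusion hCW v)
      rw [e2]
      congr 1
      refine Subtype.ext ?_
      rw [MulAut.conjNormal_apply]
      show s * (v : G) * s⁻¹ = v
      have h2 := Subgroup.mem_centralizer_iff.1 (Subgroup.mem_inf.1 v.2).2 s hs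
      rw [h2, mul_inv_cancel_right]
    · rintro c - c' - ⟨g, hg⟩
      obtain ⟨v, rfl⟩ := ConjClasses.mk_surjective c
      obtain ⟨v', rfl⟩ := ConjClasses.mk_surjective c'
      change g • ConjClasses.mk (Subgroup.inclusion hCW v) = ConjClasses.mk (Subgroup.inclusion hCW v') at hg
      rw [e2, ConjClasses.mk_eq_mk_iff_isConj] at hg
      obtain ⟨w, hw⟩ := isConj_iff.1 hg
      have hw' : (w : G) * (g * v * g⁻¹) * (w : G)⁻¹ = v' := by
        have := congrArg (Subtype.val : W → G) hw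
        rw [Subgroup.coe_mul, Subgroup.coe_mul, MulAut.conjNormal_apply, Subgroup.coe_inv] at this
        exact this
      obtain ⟨k, hk⟩ : ∃ k : G, k * (v : G) * k⁻¹ = v' := ⟨w * g, by rw [← hw']; group⟩
      -- Sylow subgroups of the centralizer
      set D : Subgroup G := Subgroup.centralizer {(v' : G)} with hDd
      have hvP : ∀ s ∈ (P : Subgroup G), s * v = v * s := fun s hs =>
        Subgroup.mem_centralizer_iff.1 (Subgroup.mem_inf.1 v.2).2 s hs
      have hvP' : ∀ s ∈ (P : Subgroup G), s * v' = v' * s := fun s hs =>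
        Subgroup.mem_centralizer_iff.1 (Subgroup.mem_inf.1 v'.2).2 s hs
      have hP1 : (P : Subgroup G) ≤ D := by
        intro s hs
        rw [hDd, Subgroup.mem_centralizer_singleton_iff]
        exact hvP' s hs
      have hP2 : ((k • P : Sylow p G) : Subgroup G) ≤ D := by
        intro s hs
        have hs1 : s ∈ MulAut.conj k • (P : Subgroup G) := hs
        obtain ⟨s', hs', rfl⟩ := hs1
        rw [hDd, Subgroup.mem_centralizer_singleton_iff]
        change k * s' * k⁻¹ * v' = v' * (k * s' * k⁻¹)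
        rw [← hk]
        calc k * s' * k⁻¹ * (k * v * k⁻¹) = k * (s' * v) * k⁻¹ := by group
          _ = k * (v * s') * k⁻¹ := by rw [hvP s' hs']
          _ = _ := by group
      obtain ⟨d, hd⟩ := MulAction.exists_smul_eq D ((k • P).subtype hP2) (P.subtype hP1)
      rw [Sylow.smul_subtype] at hd
      have hd2 : (d : G) • k • P = P := Sylow.subtype_injective hd
      rw [← mul_smul, Sylow.smul_eq_iff_mem_normalizer] at hd2
      refine ⟨⟨d * k, hd2⟩, ?_⟩
      show ConjClasses.mk (conjHom N C hNC ⟨d * k, hd2⟩ v) = ConjClasses.mk v'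
      congr 1
      refine Subtype.ext ?_
      rw [conjHom_apply]
      show (d * k : G) * v * (d * k : G)⁻¹ = v'
      have h5 : (d : G) * v' = v' * d := Subgroup.mem_centralizer_singleton_iff.1 d.2
      calc (d * k : G) * v * (d * k : G)⁻¹ = d * (k * v * k⁻¹) * (d : G)⁻¹ := by group
        _ = v' := by rw [hk, h5, mul_inv_cancel_right]
  -- (3)
  have h3 := orb_add (A := G) s1
  have h4 := orb_add (A := G) s2
  have h5 : orb G (Set.univ : Set (IrrCharacter W)) = orb G (Set.univ : Set (ConjClasses W)) :=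
    orb_irr_eq (MulAut.conjNormal : G →* MulAut W)
  have h6 : orb G Yfᶜ ≤ 1 := by omega
  have hmem : ∀ x : W, (∃ s ∈ (P : Subgroup G), ¬ IsConj (MulAut.conjNormal s x) x) →
      ConjClasses.mk x ∈ Yfᶜ := by
    rintro x ⟨s, hs, hsx⟩ h
    apply hsx
    have h7 := h s hs
    rwa [e2, ConjClasses.mk_eq_mk_iff_isConj] at h7
  obtain ⟨g, hg⟩ := exists_smul_of_orb_le_one h6 (hmem x hx) (hmem y hy)
  rw [e2, ConjClasses.mk_eq_mk_iff_isConj] at hg
  obtain ⟨w, hw⟩ := isConj_iff.1 hg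
  refine ⟨w * g, ?_⟩
  have := congrArg (Subtype.val : W → G) hw
  rw [Subgroup.coe_mul, Subgroup.coe_mul, MulAut.conjNormal_apply, Subgroup.coe_inv] at this
  rw [← this]
  group

end Cfsg.Agent.H887.Glaub
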